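import Cfsg.Agent.Lib.Rigid.Out

/-!
# The outer automorphism bound from known centralisers
-/

set_option autoImplicit false

namespace CfsgLib.RuLattice

open CfsgLib.Rigid

variable {G : Type*} [Group G] [Finite G] (c : Cod G) (D : Data)

set_option maxHeartbeats 400000 in
/-- The bound. -/
theorem out_le_of_cent [Fact D.p.Prime] {U V W : G} (h1 : c.C 1 = D.one) (hu : c.C U = D.u)
    (hv : c.C V = D.v) (hw : c.C W = D.w)
    (hsq : ¬ D.p ^ 2 ∣ Nat.card G) (hsmall : D.smallOk = true) (hsep : D.sepOk = true)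
    (htop : Subgroup.closure {x | x ∈ [U, V, W]} = ⊤) (hinj : Function.Injective c.C)
    (hsu : ∀ y : G, y * U = U * y → ∃ i : ℕ, c.C (U ^ i * y) ∈ D.uPows)
    (hsv : ∀ x : G, x * V = V ^ D.s * x → ∃ i : ℕ, c.C ((V ^ D.s) ^ i * x) ∈ D.wCodes) :
    Nat.card (Cfsg.Out G) ≤ D.valid.length := by
  simp only [Data.smallOk, Bool.and_eq_true, eqL_iff, Bool.not_eq_true', List.all_eq_true,
    List.any_eq_true, decide_eq_true_eq, Bool.or_eq_true, Nat.beq_eq, List.mem_range] at hsmall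
  obtain ⟨⟨⟨⟨⟨⟨⟨⟨hup, hune⟩, hvu⟩, hwv⟩, hvo⟩, hov⟩, hm⟩, hKc⟩, hwords⟩ := hsmall
  have hUp : U ^ D.p = 1 := hinj (by rw [c.C_pow h1, hu, hup, h1])
  have hU1 : U ≠ 1 := fun h => by
    rw [h, h1] at hu
    rw [← hu, (eqL_iff _ _).2 rfl] at hune
    simp at hune
  have hord : orderOf U = D.p := orderOf_eq_prime hUp hU1
  have hVU : V * U = U ^ D.r * V := hinj (by rw [c.mul, c.mul, c.C_pow h1, hu, hv, hvu])
  have hWV : W * V = V ^ D.s * W := hinj (by rw [c.mul, c.mul, c.C_pow h1, hw, hv, hwv])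
  have hVo : V ^ D.ov = 1 := hinj (by rw [c.C_pow h1, hv, hvo, h1])
  have hCU : ∀ y : G, y * U = U * y → ∃ m : ℕ, y = U ^ m := by
    intro y hy
    obtain ⟨i, hi⟩ := hsu y hy
    obtain ⟨j, -, hj⟩ := List.mem_map.1 hi
    rw [← hu, ← c.C_pow h1] at hj
    have e := hinj hj
    obtain ⟨m, hm'⟩ : ∃ m : ℕ, (U ^ i)⁻¹ = U ^ m := by
      obtain ⟨m, hm'⟩ := (isOfFinOrder_of_finite U).mem_powers_iff_mem_zpowers.2
        (Subgroup.inv_mem _ (Subgroup.npow_mem_zpowers U i))
      exact ⟨m, hm'.symm⟩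
    exact ⟨m + j, by rw [pow_add, e, ← hm', inv_mul_cancel_left]⟩
  have hpp : 0 < D.p := (Fact.out : D.p.Prime).pos
  have hmod : ∀ n : ℕ, U ^ n = U ^ (n % D.p) := fun n => by
    rw [← hord]; exact (pow_mod_orderOf U n).symm
  have hrep : ∀ n : ℕ, V * U ^ n = U ^ (D.r * n) * V := fun n => by
    induction n with
    | zero => simp
    | succ n ih =>
      rw [pow_succ, ← mul_assoc, ih, mul_assoc, hVU, ← mul_assoc, ← pow_add, Nat.mul_succ]
  have hN : ∀ x : G, x * U = U ^ D.r * x →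
      ∃ i : ℕ, x = U ^ i * V ∧ ∃ a : ℕ, U ^ a * x * (U ^ a)⁻¹ = V := by
    intro x hx
    obtain ⟨m, hm'⟩ := hCU (V⁻¹ * x) (by
      apply mul_left_cancel (a := V)
      rw [← mul_assoc, ← mul_assoc, ← mul_assoc, mul_inv_cancel, one_mul, hVU, hx,
        mul_assoc _ V, ← mul_assoc V V⁻¹, mul_inv_cancel, one_mul])
    have hxe : x = U ^ (D.r * m) * V := by rw [← hrep, ← hm', mul_inv_cancel_left]
    refine ⟨D.r * m, hxe, ?_⟩
    obtain ⟨a, -, ha⟩ := hm ((D.r * m) % D.p) (Nat.mod_lt _ hpp)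
    refine ⟨a, ?_⟩
    rw [hxe, ← mul_assoc, ← pow_add, mul_inv_eq_iff_eq_mul, hrep, hmod, hmod (D.r * a)]
    congr 2
    rw [← ha, Nat.add_mod_mod]
  let wG : ℕ × ℕ → G := fun ij => V ^ ij.1 * W ^ ij.2
  have hwC : ∀ ij, c.C (wG ij) = D.wCode ij := fun ij => by
    rw [c.mul, c.C_pow h1, c.C_pow h1, hv, hw]; rfl
  have hWset : ∀ x : G, x * V = V ^ D.s * x → x ∈ D.wIdx.map wG := by
    intro x hx
    obtain ⟨i, hi⟩ := hsv x hx
    obtain ⟨⟨i0, j0⟩, hmem, hj⟩ := List.mem_map.1 hi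
    rw [← hwC] at hj
    have e : V ^ i0 * W ^ j0 = (V ^ D.s) ^ i * x := hinj hj
    obtain ⟨m, hm'⟩ := (isOfFinOrder_of_finite V).mem_powers_iff_mem_zpowers.2
        (Subgroup.inv_mem _ (Subgroup.pow_mem _ (Subgroup.npow_mem_zpowers V D.s) i))
    simp only at hm'
    have hj0 : j0 < D.ow := by
      simp only [Data.wIdx, List.mem_flatMap, List.mem_map, List.mem_range, Prod.mk.injEq] at hmem
      obtain ⟨a, -, b, hb, -, rfl⟩ := hmem
      exact hb
    refine List.mem_map.2 ⟨((m + i0) % D.ov, j0), ?_, ?_⟩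
    · simp only [Data.wIdx, List.mem_flatMap, List.mem_map, List.mem_range, Prod.mk.injEq]
      exact ⟨_, Nat.mod_lt _ hov, j0, hj0, rfl, rfl⟩
    · show V ^ ((m + i0) % D.ov) * W ^ j0 = x
      rw [← pow_eq_pow_mod _ hVo, pow_add, hm', mul_assoc, e, inv_mul_cancel_left]
  refine (CfsgLib.MathieuOut.card_out_le (p := D.p) (u := U) (v := V) (ws := [W]) (r := D.r)
    (s := D.s) hord hsq htop hVU ?_ hN D.K ?_ (D.wIdx.map wG) hWset
    (D.valid.map fun t => (t.1, [wG t.2])) ?_).trans_eq (List.length_map _)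
  · intro w hw'
    rw [List.mem_singleton] at hw'
    subst hw'
    exact hWV
  · intro k hk
    have hk0 : k % D.p ≠ 0 := fun h => hk (Nat.dvd_of_mod_eq_zero h)
    rcases hKc (k % D.p) (Nat.mod_lt _ hpp) with h | ⟨l, -, k', hk', e⟩
    · exact absurd h hk0
    refine ⟨l, k', hk', ?_⟩
    have hl : ∀ (l n : ℕ), V ^ l * U ^ n = U ^ (n * D.r ^ l) * V ^ l := by
      intro l
      induction l with
      | zero => simp
      | succ l ihl =>
        intro n
        rw [pow_succ, mul_assoc, hrep, ← mul_assoc, ihl, mul_assoc, pow_succ, mul_comm D.r n,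
          mul_assoc n D.r, mul_comm D.r (D.r ^ l)]
    rw [hl, mul_inv_cancel_right, hmod, hmod k', ← e, Nat.mod_mul_mod]
  · intro k hk xs hlen hxs
    match xs, hlen with
    | [x], _ =>
      obtain ⟨ij, hij, rfl⟩ := List.mem_map.1 (hxs x List.mem_cons_self)
      simp only [Data.sepOk, List.all_eq_true, Bool.or_eq_true, List.elem_eq_mem,
        decide_eq_true_eq] at hsep
      rcases hsep k hk ij hij with h | h
      · exact Or.inl (List.mem_map.2 ⟨_, h, rfl⟩)
      refine Or.inr fun α hαu hαv hαw => ?_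
      simp only [Data.separated, List.any_eq_true, Bool.not_eq_true'] at h
      obtain ⟨l, hl, hne⟩ := h
      have h0 : evalG U V W l = 1 := hinj (by rw [c.C_evalG h1, hu, hv, hw, h1]; exact hwords l hl)
      have h3 := map_evalG α.toMonoidHom U V W l
      rw [h0, map_one] at h3
      simp only [MulEquiv.coe_toMonoidHom] at h3
      have hαW : α W = wG ij := by simpa using hαw
      rw [hαu, hαv, hαW] at h3
      have h4 := congrArg c.C h3
      rw [h1, c.C_evalG h1, c.C_pow h1, hu, hv, hwC] at h4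
      rw [← h4, (eqL_iff _ _).2 rfl] at hne
      simp at hne

end CfsgLib.RuLattice
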