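import Cfsg.Agent.Lib.Ru.Group
import Cfsg.Agent.Lib.Ru.OutLe
import Cfsg.Agent.Lib.Rigid.Spor

/-!
# The outer automorphism group of the Rudvalis group
-/

set_option autoImplicit false
set_option maxRecDepth 20000

namespace CfsgLib.RuLattice

open Cfsg Cfsg.Spor CfsgLib.Rigid

theorem validTab_length : validTab.length = 1 := by decide +kernel

instance fact_cert : Fact cert.p.Prime := ⟨show Nat.Prime 29 by norm_num⟩

theorem out_le_one : Nat.card (Cfsg.Out Act) ≤ 1 := by
  obtain ⟨hu, hv, hw, -⟩ := eUVW
  have h := out_le_of_cent act cert (U := eU) (V := eV) (W := eW) act_one hu hv hw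
    (by rw [cards.1]; show ¬ 29 ^ 2 ∣ 145926144000; norm_num) small_ok sep_ok
    full_facts.2.1 full_facts.2.2 cent_U cent_V
  exact h.trans_eq validTab_length

theorem out_ru : Nat.card (Cfsg.Out Ru) = 1 := by
  haveI : Finite Act := Quotient.finite _
  haveI : Finite (MulAut Act) := Finite.of_injective (fun e : MulAut Act => (e : Act → Act)) DFunLike.coe_injective
  rw [card_out_mulEquiv ruEquiv]
  refine le_antisymm out_le_one (Nat.card_pos)

end CfsgLib.RuLattice
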