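import Cfsg.Agent.Lib.Ru.Tits
import Cfsg.Prelude.Def_Sporadic

/-!
# The rank three representation of the Rudvalis group
-/

set_option autoImplicit false

namespace CfsgLib.RuLattice

open Cfsg Cfsg.Spor CfsgLib.Rigid

/-- The points. -/
abbrev Pts : Type := Act ⧸ ptStab

theorem card_pts : Nat.card Pts = 4060 := by
  have h : Nat.card Act = Nat.card Pts * Nat.card ptStab := Subgroup.card_eq_card_quotient_mul_card_subgroup ptStab
  rw [cards.1, stab_cards.1] at h
  omega

/-- The base point. -/
def pt0 : Pts := QuotientGroup.mk 1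

theorem exists_numbering : ∃ e : Pts ≃ Fin 4060, e pt0 = 0 := by
  haveI : Finite Pts := Quotient.finite _
  let e0 : Pts ≃ Fin 4060 := (Finite.equivFin Pts).trans (finCongr card_pts)
  exact ⟨e0.trans (Equiv.swap (e0 pt0) 0), by simp⟩

/-- A numbering of the points. -/
noncomputable def numb : Pts ≃ Fin 4060 := exists_numbering.choose

theorem numb_pt0 : numb pt0 = 0 := exists_numbering.choose_spec

/-- The permutation action. -/
noncomputable def permHom : Act →* Equiv.Perm (Fin 4060) :=
  (Equiv.permCongrHom numb : Equiv.Perm Pts ≃* Equiv.Perm (Fin 4060)).toMonoidHom.comp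
    (MulAction.toPermHom Act Pts)

theorem permHom_apply (g : Act) (i : Fin 4060) : permHom g i = numb (g • numb.symm i) := rfl

theorem permHom_fix_zero {g : Act} : permHom g 0 = 0 ↔ g ∈ ptStab := by
  rw [← numb_pt0, permHom_apply, Equiv.symm_apply_apply, numb.injective.eq_iff, pt0,
    MulAction.Quotient.smul_mk, smul_eq_mul, mul_one, QuotientGroup.eq, mul_one, Subgroup.inv_mem_iff]

theorem permHom_injective : Function.Injective permHom := by
  haveI := act_simple
  refine (MonoidHom.ker_eq_bot_iff _).1 ?_
  rcases (MonoidHom.normal_ker permHom).eq_bot_or_eq_top with h | h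
  · exact h
  exfalso
  have hall : ∀ g : Act, g ∈ ptStab := fun g => by
    refine permHom_fix_zero.1 ?_
    rw [MonoidHom.mem_ker.1 (h ▸ Subgroup.mem_top g : g ∈ permHom.ker)]
    rfl
  have := Subgroup.card_le_of_le (show (⊤ : Subgroup Act) ≤ ptStab from fun g _ => hall g)
  rw [Subgroup.card_top, cards.1, stab_cards.1] at this
  omega

/-- The group as a permutation group. -/
noncomputable def permGrp : Subgroup (Equiv.Perm (Fin 4060)) := permHom.range

/-- The group as it permutes. -/
noncomputable def permEquiv : Act ≃* permGrp := MonoidHom.ofInjective permHom_injective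

theorem permEquiv_coe (g : Act) : ((permEquiv g : permGrp) : Equiv.Perm (Fin 4060)) = permHom g := rfl

theorem stab_map : MulAction.stabilizer permGrp (0 : Fin 4060) = ptStab.map permEquiv.toMonoidHom := by
  ext σ
  obtain ⟨g, rfl⟩ := permEquiv.surjective σ
  rw [MulAction.mem_stabilizer_iff, Subgroup.mem_map_equiv, MulEquiv.symm_apply_apply, ← permHom_fix_zero]
  rfl

theorem permutation_realization :
    ∃ H : Subgroup (Equiv.Perm (Fin 4060)), Cfsg.IsRu H ∧ MulAction.IsPretransitive H (Fin 4060) ∧
      Nat.card (MulAction.stabilizer H (0 : Fin 4060)) = 35942400 ∧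
      ∃ T : Subgroup (MulAction.stabilizer H (0 : Fin 4060)), Cfsg.IsTits T := by
  haveI := act_simple
  refine ⟨permGrp, ⟨permEquiv.symm.isSimpleGroup, ?_⟩, ⟨fun i j => ?_⟩, ?_, ?_⟩
  · rw [← Nat.card_congr permEquiv.toEquiv, cards.1]
  · obtain ⟨g, hg⟩ := MulAction.exists_smul_eq Act (numb.symm i) (numb.symm j)
    refine ⟨permEquiv g, ?_⟩
    show permHom g i = j
    rw [permHom_apply, hg, Equiv.apply_symm_apply]
  · rw [stab_map, ← Nat.card_congr (Subgroup.equivMapOfInjective ptStab permEquiv.toMonoidHom permEquiv.injective).toEquiv]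
    exact stab_cards.1
  · refine ⟨(titsSub.map permEquiv.toMonoidHom).subgroupOf _, ?_⟩
    have hle : titsSub.map permEquiv.toMonoidHom ≤ MulAction.stabilizer permGrp (0 : Fin 4060) := by
      rw [stab_map]; exact Subgroup.map_mono titsSub_le
    have e : ↥((titsSub.map permEquiv.toMonoidHom).subgroupOf (MulAction.stabilizer permGrp (0 : Fin 4060))) ≃*
        titsSub := (Subgroup.subgroupOfEquivOfLe hle).trans
      (Subgroup.equivMapOfInjective titsSub permEquiv.toMonoidHom permEquiv.injective).symm
    haveI := titsSub_simple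
    exact ⟨e.isSimpleGroup, (Nat.card_congr e.toEquiv).trans card_titsSub⟩

end CfsgLib.RuLattice
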