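import Cfsg.Agent.Lib.Ru.Levels
import Cfsg.Agent.Lib.Ru.DetSearch
import Cfsg.Agent.Lib.Ru.CertDefs

/-!
# Small facts for the subgroup of index two
-/

set_option autoImplicit false
set_option maxRecDepth 100000

namespace CfsgLib.RuLattice

open CfsgLib.Rigid

theorem memN_mem {p : ℕ} : ∀ {l : List ℕ}, memN p l = true → p ∈ l := by
  intro l
  induction l with
  | nil => intro h; exact absurd h (by simp [memN])
  | cons a l ih =>
    intro h
    have e : memN p (a :: l) = Bool.rec (memN p l) true (Nat.beq a p) := rfl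
    rw [e] at h
    cases hb : Nat.beq a p with
    | true => rw [Nat.beq_eq] at hb; exact hb ▸ List.mem_cons_self
    | false => rw [hb] at h; exact List.mem_cons_of_mem _ (ih h)

theorem sizesU1_ok : Nat.beq levU1.pts.length 4060 = true := by decide +kernel

theorem sizesU3_ok : Nat.beq levU3.pts.length 1024 = true := by decide +kernel

theorem gi4_sub : (levU4.gi.all fun i => levU3.gi.elem i) = true := by decide +kernel

theorem reach_pts {G : Type*} [Group G] {c : Cod G} {K : Subgroup G} {one : List ℕ} {known : List (List ℕ)}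
    {fixed : List ℕ} {L : Level} (hok : wideOk L one known fixed = true)
    (hg : ∀ M ∈ L.gens known, ∃ g ∈ K, g ∈ c.stab fixed ∧ c.C g = M) (h1 : c.C 1 = one) :
    ∀ p ∈ L.pts, c.Reach K fixed L.b p := by
  simp only [wideOk, Bool.and_eq_true, List.all_eq_true, decide_eq_true_eq, Nat.beq_eq] at hok
  obtain ⟨⟨⟨⟨-, hb⟩, hP⟩, hM⟩, -⟩ := hok
  have hroot : c.Reach K fixed L.b L.b := ⟨1, K.one_mem, (c.stab fixed).one_mem, by rw [h1, hb]⟩
  intro p hp
  have tp := Cod.treeP_sound c hg L.tp [L.b] (fun q hq => by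
    rw [List.mem_singleton] at hq; subst hq; exact hroot) hP
  have tm := Cod.treeM_sound c (b := L.b) hg L.tm [one] (fun M hM' => by
    rw [List.mem_singleton] at hM'; subst hM'
    exact ⟨1, K.one_mem, (c.stab fixed).one_mem, h1⟩) hM
  unfold Level.pts at hp
  split at hp
  · rcases List.mem_cons.1 hp with rfl | hp
    · exact hroot
    obtain ⟨e, he, rfl⟩ := List.mem_map.1 hp
    obtain ⟨g, hgK, hgs, eg, ep⟩ := tm e he
    exact ⟨g, hgK, hgs, by rw [eg]; exact ep⟩
  · rcases List.mem_cons.1 hp with rfl | hp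
    · exact hroot
    obtain ⟨e, he, rfl⟩ := List.mem_map.1 hp
    exact tp e he

/-- An automorphism of order five of a normal subgroup of order 27 is trivial. -/
theorem fix_of_five {G : Type*} [Group G] [Finite G] (N : Subgroup G) [N.Normal] (h : Nat.card N = 27)
    {x : G} (hx : x ^ 5 = 1) : ∀ n ∈ N, x * n * x⁻¹ = n := by
  classical
  intro n hn
  by_cases h1 : x = 1
  · subst h1; simp
  haveI : Fact (Nat.Prime 5) := ⟨by norm_num⟩
  haveI : Finite N := Subtype.finite
  have hP : IsPGroup 5 (Subgroup.zpowers x) :=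
    IsPGroup.of_card (n := 1) (by rw [Nat.card_zpowers, orderOf_eq_prime hx h1, pow_one])
  let c : Subgroup.zpowers x →* MulAut N := (MulAut.conjNormal (H := N)).comp (Subgroup.zpowers x).subtype
  letI : MulDistribMulAction (Subgroup.zpowers x) N := MulDistribMulAction.compHom N c
  have hm := hP.card_modEq_card_fixedPoints N
  let F : Subgroup N :=
    { carrier := MulAction.fixedPoints (Subgroup.zpowers x) N
      one_mem' := fun g => smul_one g
      mul_mem' := fun {a b} ha hb g => by rw [smul_mul', ha g, hb g]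
      inv_mem' := fun {a} ha g => by rw [smul_inv', ha g] }
  have hd := Subgroup.card_subgroup_dvd_card F
  rw [h] at hd hm
  have hF : Nat.card (MulAction.fixedPoints (Subgroup.zpowers x) N) = Nat.card F := rfl
  rw [hF] at hm
  obtain ⟨i, hi, hiF⟩ := (Nat.dvd_prime_pow (by norm_num : Nat.Prime 3)).1 (show Nat.card F ∣ 3 ^ 3 from hd)
  rw [hiF] at hm
  have hi3 : i = 3 := by
    interval_cases i
    · exact absurd hm (by decide)
    · exact absurd hm (by decide)
    · exact absurd hm (by decide)
    · rfl
  have htop : F = ⊤ := Subgroup.eq_top_of_card_eq F (by rw [hiF, hi3, h]; norm_num)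
  have hmem : (⟨n, hn⟩ : N) ∈ F := htop ▸ Subgroup.mem_top _
  exact congrArg Subtype.val (hmem ⟨x, Subgroup.mem_zpowers x⟩)

end CfsgLib.RuLattice
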