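import Cfsg.Agent.Lib.Ru.TitsDefs

/-!
# The checks of the certificate for the derived subgroup of a point stabiliser
-/

set_option autoImplicit false
set_option maxRecDepth 100000

namespace CfsgLib.RuLattice

open CfsgLib.Rigid

theorem opsS_ok : slpOk oneC opsS [cU, cV, cW] = true := by decide +kernel

theorem opsT_ok : slpOk oneC opsT [cA, cB] = true := by decide +kernel

theorem posT_ok : knownS.getD posA [] = cA ∧ knownS.getD posB [] = cB ∧ knownT.getD posT [] = cT ∧
    posA < knownS.length ∧ posB < knownS.length ∧ posT < knownT.length := by decide +kernel

theorem rel_T : eqL (powC oneC cA 5) oneC = true ∧ eqL (powC oneC cB 5) oneC = true ∧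
    eqL (powC oneC cT 13) oneC = true ∧ eqL cT oneC = false ∧ img cA levU1.b = levU1.b ∧
    img cB levU1.b = levU1.b ∧
    (consC.all fun k => eqL (powC oneC cT k.k) k.A && eqL (powC oneC cT k.k) k.B) = true ∧
    consC.length = 2 := by decide +kernel

theorem levelT1_ok : wideOk levT1 oneC knownT [] = true := by decide +kernel

theorem levelT2_ok : wideOk levT2 oneC knownT [levT1.b] = true := by decide +kernel

theorem levelT3_ok : wideOk levT3 oneC knownT [levT2.b, levT1.b] = true := by decide +kernel

theorem levelC1_ok : wideOk levC1 oneC knownT [] = true := by decide +kernel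

theorem levelC2_ok : wideOk levC2 oneC knownT [levC1.b] = true := by decide +kernel

theorem levelC3_ok : wideOk levC3 oneC knownT [levC2.b, levC1.b] = true := by decide +kernel

theorem sizesT_ok : Cod.prodLen (levelsT.map fun L => (L.b, L.pts)) = 17971200 ∧
    Cod.prodLen (levelsC.map fun L => (L.b, L.pts)) = 17971200 ∧
    ((levelsT ++ levelsC).all fun L => decide (L.b < 2 ^ 28)) = true := by decide +kernel

theorem halves_ok : halvesTest = true := by decide +kernel

theorem witA_ok : witAll cA optsT witA = true := by decide +kernel

theorem witB_ok : witAll cB optsT witB = true := by decide +kernel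

theorem invsC_ok : (invOK oneC (optsI levC1 invC1) && invOK oneC (optsI levC2 invC2) &&
    invOK oneC (optsI levC3 invC3)) = true := by decide +kernel

theorem searchC_ok : searchC = true := by decide +kernel

end CfsgLib.RuLattice
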