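import Cfsg.Agent.Lib.Ru.Group
import Cfsg.Agent.Lib.Ru.TitsCheck
import Cfsg.Agent.Lib.Ru.TitsAux
import Cfsg.Prelude.Def_Exceptional

/-!
# A simple subgroup of index two in a point stabiliser of the Rudvalis group
-/

set_option autoImplicit false
set_option maxRecDepth 20000

namespace CfsgLib.RuLattice

open Cfsg Cfsg.Spor CfsgLib.Rigid

instance finite_act : Finite Act := Quotient.finite _

/-- A finite group: a set closed under products contains the subgroup it generates. -/
theorem closure_induct {G : Type*} [Group G] [Finite G] {s : Set G} {P : G → Prop} (h1 : P 1)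
    (hmul : ∀ x ∈ s, ∀ y, P y → P (x * y)) : ∀ g ∈ Subgroup.closure s, P g := by
  intro g hg
  have e : (Subgroup.closure s).toSubmonoid = Submonoid.closure s :=
    Subgroup.closure_toSubmonoid_of_finite
  have hg' : g ∈ Submonoid.closure s := e ▸ hg
  induction hg' using Submonoid.closure_induction_left with
  | one => exact h1
  | mul_left x hx y hy ih => exact hmul x hx y (ih (e ▸ hy : y ∈ (Subgroup.closure s).toSubmonoid))

/-- The stabiliser of a point. -/
def ptStab : Subgroup Act := act.stab [levU1.b]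

/-- The stabiliser of two points. -/
def pairStab : Subgroup Act := act.stab [levU2.b, levU1.b]

theorem pt_b1 : act.Pt levU1.b := pt_levels levU1 (by simp [levelsU])

theorem pt_b2 : act.Pt levU2.b := pt_levels levU2 (by simp [levelsU])

theorem mem_ptStab {g : Act} : g ∈ ptStab ↔ img (act.C g) levU1.b = levU1.b := by
  rw [ptStab, act.mem_stab_cons pt_b1, act.stab_nil]
  exact ⟨fun h => h.2, fun h => ⟨trivial, h⟩⟩

theorem mem_pairStab {g : Act} : g ∈ pairStab ↔ g ∈ ptStab ∧ img (act.C g) levU2.b = levU2.b :=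
  act.mem_stab_cons pt_b2

theorem stab_cards : Nat.card ptStab = 35942400 ∧
    (∀ p ∈ levU1.pts, ∃ g : Act, img (act.C g) levU1.b = p) ∧ levU1.pts.Nodup ∧ levU1.pts.length = 4060 := by
  have hch := chain_of_wide act (K := genSub) act_one known_mem levelsU [] levelsU_ok
  obtain ⟨-, hr, hnd, hrest⟩ := hch
  have h1 := (act.prodLen_le _ [levU1.b] hrest).1
  have hcs := act.card_stab [] pt_b1
  rw [act.stab_nil, Subgroup.card_top, cards.1] at hcs
  set R := Set.range fun g : (⊤ : Subgroup Act) => img (act.C g.1) levU1.b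
  have hsub : {p | p ∈ levU1.pts} ⊆ Set.range fun g : act.stab [] => img (act.C g.1) levU1.b := fun p hp => by
    obtain ⟨g, -, hg, e⟩ := hr p hp
    exact ⟨⟨g, hg⟩, e⟩
  have hn := Set.ncard_le_ncard hsub (Set.finite_range _)
  rw [act.stab_nil] at hn
  have hlen : levU1.pts.length = 4060 := by
    have h := sizesU1_ok
    exact Nat.eq_of_beq_eq_true h
  have hcardp : {p | p ∈ levU1.pts}.ncard = 4060 := by
    have e : {p | p ∈ levU1.pts} = ((levU1.pts.toFinset : Finset ℕ) : Set ℕ) :=
      Set.ext fun p => List.mem_toFinset.symm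
    rw [e, Set.ncard_coe_finset, List.toFinset_card_of_nodup (show levU1.pts.Nodup from hnd)]
    exact hlen
  have hprod : Cod.prodLen ((([levU2, levU3, levU4] : List Level)).map fun L => (L.b, L.pts)) = 35942400 := by
    have h := sizes_ok.1
    change levU1.pts.length * Cod.prodLen ((([levU2, levU3, levU4] : List Level)).map fun L => (L.b, L.pts)) = _ at h
    rw [hlen] at h
    omega
  change Cod.prodLen ((([levU2, levU3, levU4] : List Level)).map fun L => (L.b, L.pts)) ≤ _ at h1
  rw [hprod] at h1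
  rw [hcardp, ← Nat.card_coe_set_eq] at hn
  refine ⟨le_antisymm ?_ h1, fun p hp => ?_, hnd, hlen⟩
  · have := Nat.mul_le_mul_right (Nat.card ptStab) hn
    change 145926144000 = _ * Nat.card ptStab at hcs
    rw [← hcs] at this
    omega
  · obtain ⟨g, -, -, e⟩ := hr p hp
    exact ⟨g, e⟩

/-- The generators of the pair stabiliser. -/
def pairGens : Set Act := {g | g ∈ pairStab ∧ ∃ i ∈ levU3.gi, act.C g = cert.known.getD i []}

theorem gi_lt {i : ℕ} (hi : i ∈ levU3.gi) : i < cert.known.length ∧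
    img (cert.known.getD i []) levU2.b = levU2.b ∧ img (cert.known.getD i []) levU1.b = levU1.b := by
  have h := levelU3_ok
  simp only [wideOk, Bool.and_eq_true, List.all_eq_true, decide_eq_true_eq, Nat.beq_eq] at h
  obtain ⟨h1, h2⟩ := h.1.1.1.1 i hi
  exact ⟨h1, h2 _ (by simp), h2 _ (by simp)⟩

theorem exists_gen {i : ℕ} (hi : i ∈ levU3.gi) : ∃ g ∈ pairGens, act.C g = cert.known.getD i [] := by
  obtain ⟨h, e2, e1⟩ := gi_lt hi
  have hm : cert.known.getD i [] ∈ cert.known := by
    rw [List.getD_eq_getElem _ _ h]; exact List.getElem_mem h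
  obtain ⟨g, -, hg⟩ := known_mem _ hm
  refine ⟨g, ⟨mem_pairStab.2 ⟨mem_ptStab.2 ?_, ?_⟩, i, hi, hg⟩, hg⟩ <;> rw [hg] <;> assumption

theorem pairStab_gen : pairStab ≤ Subgroup.closure pairGens := by
  have hch := chain_of_wide act (K := genSub) act_one known_mem levelsU [] levelsU_ok
  obtain ⟨hall, -⟩ := full_facts
  set K' := Subgroup.closure pairGens
  obtain ⟨-, -, -, -, -, -, hrest⟩ := hch
  -- the last two levels are reached inside the generated subgroup
  have hk : ∀ M ∈ (levU3.gens cert.known), ∃ g ∈ K', g ∈ act.stab [levU2.b, levU1.b] ∧ act.C g = M := by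
    intro M hM
    obtain ⟨i, hi, rfl⟩ := List.mem_map.1 hM
    obtain ⟨g, hg, e⟩ := exists_gen hi
    exact ⟨g, Subgroup.subset_closure hg, hg.1, e⟩
  have r3 : ∀ p ∈ levU3.pts, act.Reach K' [levU2.b, levU1.b] levU3.b p := reach_pts levelU3_ok hk act_one
  have hk4 : ∀ M ∈ (levU4.gens cert.known), ∃ g ∈ K', g ∈ act.stab [levU3.b, levU2.b, levU1.b] ∧ act.C g = M := by
    intro M hM
    obtain ⟨i, hi, rfl⟩ := List.mem_map.1 hM
    have h4 := levelU4_ok
    simp only [wideOk, Bool.and_eq_true, List.all_eq_true, decide_eq_true_eq, Nat.beq_eq] at h4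
    obtain ⟨-, hfix⟩ := h4.1.1.1.1 i hi
    have hi3 : i ∈ levU3.gi := by
      have h := gi4_sub
      simp only [List.all_eq_true, List.elem_eq_mem, decide_eq_true_eq] at h
      exact h i hi
    obtain ⟨g, hg, e⟩ := exists_gen hi3
    exact ⟨g, Subgroup.subset_closure hg,
      (act.mem_stab_cons (pt_levels levU3 (by simp [levelsU]))).2 ⟨hg.1, by rw [e]; exact hfix _ (by simp)⟩, e⟩
  have r4 : ∀ p ∈ levU4.pts, act.Reach K' [levU3.b, levU2.b, levU1.b] levU4.b p := reach_pts levelU4_ok hk4 act_one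
  obtain ⟨hp3, -, hn3, hp4, -, hn4, -⟩ := hrest
  have hchain : act.ChainOK K' [levU2.b, levU1.b] [(levU3.b, levU3.pts), (levU4.b, levU4.pts)] :=
    ⟨hp3, r3, hn3, hp4, r4, hn4, trivial⟩
  refine ((act.prodLen_le _ _ hchain).2 ?_).2
  obtain ⟨h1, h2, h3, -⟩ := hall
  have hb : ∀ (l : List ℕ) (b : ℕ) (pts : List ℕ), act.Pt b → (∀ g ∈ act.stab l, img (act.C g) b ∈ pts) →
      Nat.card (act.stab l) ≤ pts.length * Nat.card (act.stab (b :: l)) := by
    intro l b pts hpb hpts
    rw [act.card_stab l hpb]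
    refine Nat.mul_le_mul_right _ ?_
    rw [Nat.card_coe_set_eq]
    refine le_trans (Set.ncard_le_ncard (t := (pts.toFinset : Set ℕ)) ?_ (Finset.finite_toSet _)) ?_
    · rintro _ ⟨g, rfl⟩
      simpa using hpts g.1 g.2
    · rw [Set.ncard_coe_finset]; exact List.toFinset_card_le _
  obtain ⟨h4, h5⟩ := full_facts.1.2.2.2
  have b3 := hb _ _ _ hp3 h3
  have b4 := hb _ _ _ hp4 h4
  have hlast : act.stab [levU4.b, levU3.b, levU2.b, levU1.b] = ⊥ := (Subgroup.eq_bot_iff_forall _).2 h5
  rw [hlast, Subgroup.card_bot] at b4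
  show _ ≤ levU3.pts.length * (levU4.pts.length * 1)
  exact b3.trans (Nat.mul_le_mul_left _ b4)

/-- An element keeps both halves. -/
def Keep (g : Act) : Prop :=
  (∀ p ∈ halfA, img (act.C g) p ∈ halfA) ∧ ∀ p ∈ halfB, img (act.C g) p ∈ halfB

/-- An element exchanges the halves. -/
def Swap (g : Act) : Prop :=
  (∀ p ∈ halfA, img (act.C g) p ∈ halfB) ∧ ∀ p ∈ halfB, img (act.C g) p ∈ halfA

theorem halves : (halfA ++ halfB).Nodup ∧ (∀ p ∈ levU3.pts, p ∈ halfA ∨ p ∈ halfB) ∧
    halfA.length = 512 ∧ halfB.length = 512 ∧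
    halfA.getD 0 0 = levT2.b ∧ levU3.b = levT2.b ∧ levU2.b = levT1.b ∧ halfA = halfParts.flatten ∧
    (∀ p ∈ halfA ++ halfB, act.Pt p) ∧
    (∀ i ∈ levU3.gi, keepTest (cert.known.getD i []) = true ∨ swapTest (cert.known.getD i []) = true) ∧
    swapTest (cert.known.getD (levU3.gi.getD 0 0) []) = true ∧ levU3.gi ≠ [] ∧
    (∀ o ∈ optsT, o.1 = levT1.b → o.2 = oneC) := by
  have h := halves_ok
  simp only [halvesTest, Bool.and_eq_true, decide_eq_true_eq, Nat.beq_eq, List.all_eq_true,
    Bool.or_eq_true, eqL_iff, Bool.not_eq_true'] at h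
  obtain ⟨⟨⟨⟨⟨⟨⟨⟨⟨⟨⟨⟨a, b⟩, c⟩, d⟩, e⟩, f⟩, g⟩, i⟩, j⟩, k⟩, l⟩, m⟩, n⟩ := h
  refine ⟨nodup_of_ndTest _ _ a, fun p hp => ?_, b, c, e, f, g, i, fun p hp => j p hp, k, l, m, fun o ho ho1 => ?_⟩
  · exact (d p hp).imp memN_mem memN_mem
  · rcases n o ho with h' | h'
    · exact absurd ho1 (Nat.ne_of_beq_eq_false h')
    · exact h'

theorem half_mem_orbit {g : Act} (hg : g ∈ pairStab) {p : ℕ} (hp : p ∈ halfA ∨ p ∈ halfB) :
    img (act.C g) p ∈ halfA ∨ img (act.C g) p ∈ halfB := by
  obtain ⟨-, hsub, -, -, -, -, -, -, -, -, -, -, -⟩ := halves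
  have hch := chain_of_wide act (K := genSub) act_one known_mem levelsU [] levelsU_ok
  obtain ⟨-, -, -, -, -, -, -, hr3, hn3, -⟩ := hch
  obtain ⟨hnd, -, la, lb, -, -, -, -, -, -, -, -, -⟩ := halves
  have hlen : levU3.pts.length = 1024 := Nat.eq_of_beq_eq_true sizesU3_ok
  have hsub' : ∀ q, q ∈ halfA ∨ q ∈ halfB → q ∈ levU3.pts := by
    intro q hq
    have e : levU3.pts.toFinset = (halfA ++ halfB).toFinset := by
      refine Finset.eq_of_subset_of_card_le (fun r hr => ?_) ?_
      · rw [List.mem_toFinset] at hr ⊢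
        exact List.mem_append.2 (hsub r hr)
      · rw [List.toFinset_card_of_nodup hnd, List.toFinset_card_of_nodup (show levU3.pts.Nodup from hn3),
          List.length_append]
        omega
    rw [← List.mem_toFinset, e, List.mem_toFinset]
    exact List.mem_append.2 hq
  obtain ⟨t, -, ht, e⟩ := hr3 p (hsub' p hp)
  refine hsub _ ?_
  rw [← e, ← act.img_mul]
  exact full_facts.1.2.2.1 _ ((act.stab _).mul_mem hg ht)

theorem keep_or_swap : ∀ g ∈ pairStab, Keep g ∨ Swap g := by
  intro g hg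
  have hdis := halves.1
  rw [List.nodup_append] at hdis
  suffices h : g ∈ pairStab → Keep g ∨ Swap g from h hg
  refine closure_induct (s := pairGens) (P := fun g => g ∈ pairStab → Keep g ∨ Swap g)
    (fun _ => Or.inl ⟨fun p hp => ?_, fun p hp => ?_⟩) (fun x hx y ih hxy => ?_) g (pairStab_gen hg)
  · rw [act.one_img p (halves.2.2.2.2.2.2.2.2.1 p (List.mem_append.2 (Or.inl hp)))]; exact hp
  · rw [act.one_img p (halves.2.2.2.2.2.2.2.2.1 p (List.mem_append.2 (Or.inr hp)))]; exact hp
  · have hy : y ∈ pairStab := by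
      have := pairStab.mul_mem (pairStab.inv_mem hx.1) hxy
      rwa [inv_mul_cancel_left] at this
    obtain ⟨i, hi, e⟩ := hx.2
    have side : ∀ (l m : List ℕ), ndTest 32 (l.map (img (act.C x)) ++ m) = true →
        ∀ p ∈ l, img (act.C x) p ∉ m := fun l m h p hp hm => by
      have := (List.nodup_append.1 (nodup_of_ndTest _ _ h)).2.2 _ (List.mem_map_of_mem hp) _ hm
      exact this rfl
    have hxc : Keep x ∨ Swap x := by
      rcases halves.2.2.2.2.2.2.2.2.2.1 i hi with h | h <;>
        simp only [keepTest, swapTest, Bool.and_eq_true, ← e] at h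
      · refine Or.inl ⟨fun p hp => ?_, fun p hp => ?_⟩
        · exact (half_mem_orbit hx.1 (Or.inl hp)).resolve_right (side _ _ h.1 p hp)
        · exact (half_mem_orbit hx.1 (Or.inr hp)).resolve_left (side _ _ h.2 p hp)
      · refine Or.inr ⟨fun p hp => ?_, fun p hp => ?_⟩
        · exact (half_mem_orbit hx.1 (Or.inl hp)).resolve_left (side _ _ h.1 p hp)
        · exact (half_mem_orbit hx.1 (Or.inr hp)).resolve_right (side _ _ h.2 p hp)
    rcases hxc with hxk | hxk <;> rcases ih hy with hyk | hyk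
    · exact Or.inl ⟨fun p hp => by rw [act.img_mul]; exact hxk.1 _ (hyk.1 p hp),
        fun p hp => by rw [act.img_mul]; exact hxk.2 _ (hyk.2 p hp)⟩
    · exact Or.inr ⟨fun p hp => by rw [act.img_mul]; exact hxk.2 _ (hyk.1 p hp),
        fun p hp => by rw [act.img_mul]; exact hxk.1 _ (hyk.2 p hp)⟩
    · exact Or.inr ⟨fun p hp => by rw [act.img_mul]; exact hxk.1 _ (hyk.1 p hp),
        fun p hp => by rw [act.img_mul]; exact hxk.2 _ (hyk.2 p hp)⟩
    · exact Or.inl ⟨fun p hp => by rw [act.img_mul]; exact hxk.2 _ (hyk.1 p hp),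
        fun p hp => by rw [act.img_mul]; exact hxk.1 _ (hyk.2 p hp)⟩

theorem exists_ab : ∃ a b : Act, act.C a = cA ∧ act.C b = cB := by
  have h := act.slp_sound (K := genSub) act_one opsS [cU, cV, cW] (fun M hM => ?_) opsS_ok
  · obtain ⟨ea, eb, -, la, lb, -⟩ := posT_ok
    rw [List.getD_eq_getElem _ _ la] at ea
    rw [List.getD_eq_getElem _ _ lb] at eb
    obtain ⟨a, -, ha⟩ := h _ (ea ▸ List.getElem_mem la)
    obtain ⟨b, -, hb⟩ := h _ (eb ▸ List.getElem_mem lb)
    exact ⟨a, b, ha, hb⟩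
  · exact known_mem M (List.mem_append.2 (Or.inl hM))

/-- The first generator. -/
noncomputable def eA : Act := exists_ab.choose

/-- The second generator. -/
noncomputable def eB : Act := exists_ab.choose_spec.choose

theorem eAB : act.C eA = cA ∧ act.C eB = cB := exists_ab.choose_spec.choose_spec

/-- The subgroup of index two. -/
noncomputable def titsSub : Subgroup Act := Subgroup.closure {eA, eB}

theorem titsSub_le : titsSub ≤ ptStab := by
  refine (Subgroup.closure_le _).2 fun x hx => mem_ptStab.2 ?_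
  rcases hx with rfl | rfl
  · rw [eAB.1]; exact rel_T.2.2.2.2.1
  · rw [eAB.2]; exact rel_T.2.2.2.2.2.1

theorem knownT_mem : ∀ M ∈ knownT, act.Mem titsSub M := by
  refine act.slp_sound act_one opsT _ (fun M hM => ?_) opsT_ok
  simp only [List.mem_cons, List.not_mem_nil, or_false] at hM
  rcases hM with rfl | rfl
  · exact ⟨eA, Subgroup.subset_closure (by simp), eAB.1⟩
  · exact ⟨eB, Subgroup.subset_closure (by simp), eAB.2⟩

/-- The action of the subgroup through codes. -/
noncomputable def actT : Cod titsSub where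
  C g := act.C g.1
  Pt := act.Pt
  mul g h := act.mul g.1 h.1
  img_pt g p hp := act.img_pt g.1 p hp
  one_img p hp := act.one_img p hp

theorem actT_one : actT.C 1 = oneC := act_one

theorem knownT_actT : ∀ M ∈ knownT, actT.Mem ⊤ M := fun M hM => by
  obtain ⟨g, hg, e⟩ := knownT_mem M hM
  exact ⟨⟨g, hg⟩, trivial, e⟩

theorem pt_levelsT : ∀ L ∈ levelsT ++ levelsC, actT.Pt L.b := fun L hL =>
  show L.b < 2 ^ 28 from of_decide_eq_true (List.all_eq_true.1 sizesT_ok.2.2 L hL)

theorem levelsT_ok : WideLevels actT oneC knownT [] levelsT :=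
  ⟨pt_levelsT _ (by simp [levelsT]), levelT1_ok, pt_levelsT _ (by simp [levelsT]), levelT2_ok,
    pt_levelsT _ (by simp [levelsT]), levelT3_ok, trivial⟩

theorem levelsC_ok : WideLevels actT oneC knownT [] levelsC :=
  ⟨pt_levelsT _ (by simp [levelsC]), levelC1_ok, pt_levelsT _ (by simp [levelsC]), levelC2_ok,
    pt_levelsT _ (by simp [levelsC]), levelC3_ok, trivial⟩

theorem optsT_spec : ∀ o ∈ optsT, ∃ r : Act, r ∈ titsSub ∧ act.C r = o.2 ∧ img o.2 levT1.b = o.1 := by
  intro o ho
  obtain ⟨g, -, e1, e2⟩ := (wide_sound actT (K := ⊤) actT_one knownT_actT levelT1_ok).2.2 o ho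
  exact ⟨g.1, g.2, e1, e2⟩

theorem getT_mem {j : ℕ} (h : (getT j).1 = true) : (getT j).2 ∈ optsT := by
  match j with
  | 0 => exact List.mem_cons_self
  | j + 1 =>
    simp only [getT, Bool.and_eq_true, decide_eq_true_eq] at h ⊢
    obtain ⟨h1, h2⟩ := h
    refine List.mem_cons_of_mem _ (List.mem_map.2 ⟨(levT1parts.getD (j / 40) []).getD (j % 40) (0, 0, 0, []), ?_, rfl⟩)
    rw [levT1tm]
    refine List.mem_flatten.2 ⟨levT1parts.getD (j / 40) [], ?_, ?_⟩
    · rw [List.getD_eq_getElem _ _ h1]; exact List.getElem_mem _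
    · rw [List.getD_eq_getElem _ _ h2]; exact List.getElem_mem _

theorem getH_mem {j : ℕ} (h : (getH j).1 = true) : (getH j).2 ∈ halfA := by
  simp only [getH, Bool.and_eq_true, decide_eq_true_eq] at h ⊢
  obtain ⟨h1, h2⟩ := h
  rw [halves.2.2.2.2.2.2.2.1]
  refine List.mem_flatten.2 ⟨halfParts.getD (j / 40) [], ?_, ?_⟩
  · rw [List.getD_eq_getElem _ _ h1]; exact List.getElem_mem _
  · rw [List.getD_eq_getElem _ _ h2]; exact List.getElem_mem _

theorem witAll_spec {g : List ℕ} : ∀ (os : List (ℕ × List ℕ)) (ws : List (ℕ × ℕ)), witAll g os ws = true →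
    ∀ o ∈ os, ∃ w, witOne g o w = true := by
  intro os
  induction os with
  | nil => simp
  | cons a os ih =>
    intro ws h o ho
    match ws, h with
    | w :: ws, h =>
      simp only [witAll, Bool.and_eq_true] at h
      rcases List.mem_cons.1 ho with rfl | ho
      · exact ⟨w, h.1⟩
      · exact ih ws h.2 o ho

/-- The elements that are a representative times an element keeping the halves. -/
def InKept (g : Act) : Prop :=
  ∃ o ∈ optsT, ∃ r k : Act, act.C r = o.2 ∧ k ∈ pairStab ∧ Keep k ∧ g = r * k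

theorem kept_step {x : Act} {gx : List ℕ} {W : List (ℕ × ℕ)} (hxT : x ∈ titsSub) (hx : act.C x = gx)
    (hw : witAll gx optsT W = true) : ∀ y, InKept y → InKept (x * y) := by
  rintro y ⟨o, ho, r, k, hr, hk, hkk, rfl⟩
  obtain ⟨hnd, -, -, -, h0, h3, h21, -, hpt, -, -, -, -⟩ := halves
  obtain ⟨w, hwo⟩ := witAll_spec _ _ hw o ho
  simp only [witOne, Bool.and_eq_true, Nat.beq_eq] at hwo
  obtain ⟨⟨⟨ht, hh⟩, e1⟩, e2⟩ := hwo
  have hto := getT_mem ht
  obtain ⟨r', hr'T, hr', hr'b⟩ := optsT_spec _ hto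
  obtain ⟨r0, hr0T, hr0, hr0b⟩ := optsT_spec o ho
  have hrr : r = r0 := full_facts.2.2 (hr.trans hr0.symm)
  subst hrr
  set k' := r'⁻¹ * (x * r) with hk'
  have hk's : k' ∈ pairStab := by
    refine mem_pairStab.2 ⟨titsSub_le (titsSub.mul_mem (titsSub.inv_mem hr'T) (titsSub.mul_mem hxT hr0T)), ?_⟩
    have a1 : img (act.C (x * r)) levU2.b = img (act.C r') levU2.b := by
      rw [act.img_mul, hx, hr, hr', h21, hr0b, hr'b, e1]
    rw [hk', act.img_mul, a1, act.img_inv_img r' pt_b2]
  have hb3 : img (act.C k') levU3.b = (getH w.2).2 := by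
    have a2 : img (act.C (x * r)) levT2.b = img (act.C r') (getH w.2).2 := by
      rw [act.img_mul, hx, hr, hr', e2]
    rw [hk', act.img_mul, h3, a2, act.img_inv_img r' (hpt _ (List.mem_append.2 (Or.inl (getH_mem hh))))]
  have hb3A : levU3.b ∈ halfA := by
    rw [h3, ← h0, List.getD_eq_getElem _ _ (by rw [halves.2.2.1]; norm_num)]
    exact List.getElem_mem _
  have hkeep' : Keep k' := by
    refine (keep_or_swap k' hk's).resolve_right fun hs => ?_
    have h1 := hs.1 _ hb3A
    rw [hb3] at h1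
    exact (List.nodup_append.1 hnd).2.2 _ (getH_mem hh) _ h1 rfl
  refine ⟨(getT w.1).2, hto, r', k' * k, hr', pairStab.mul_mem hk's hk, ⟨fun p hp => ?_, fun p hp => ?_⟩, ?_⟩
  · rw [act.img_mul]; exact hkeep'.1 _ (hkk.1 p hp)
  · rw [act.img_mul]; exact hkeep'.2 _ (hkk.2 p hp)
  · rw [hk', mul_assoc r'⁻¹, mul_inv_cancel_left, mul_assoc]

theorem titsSub_kept : ∀ g ∈ titsSub, InKept g := by
  refine closure_induct ⟨(levT1.b, oneC), List.mem_cons_self, 1, 1, act_one, one_mem _,
    ⟨fun p hp => ?_, fun p hp => ?_⟩, by rw [one_mul]⟩ ?_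
  · rw [act.one_img p (halves.2.2.2.2.2.2.2.2.1 p (List.mem_append.2 (Or.inl hp)))]; exact hp
  · rw [act.one_img p (halves.2.2.2.2.2.2.2.2.1 p (List.mem_append.2 (Or.inr hp)))]; exact hp
  · rintro x (rfl | rfl)
    · exact kept_step (Subgroup.subset_closure (by simp)) eAB.1 witA_ok
    · exact kept_step (Subgroup.subset_closure (by simp)) eAB.2 witB_ok

theorem titsSub_ne : ¬ ptStab ≤ titsSub := by
  intro hle
  obtain ⟨hnd, -, -, -, h0, h3, h21, -, hpt, -, hsw, hne, hone⟩ := halves
  have hi : levU3.gi.getD 0 0 ∈ levU3.gi := by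
    obtain ⟨a, l, e⟩ := List.exists_cons_of_ne_nil hne
    rw [e]; simp
  obtain ⟨τ, hτ, eτ⟩ := exists_gen hi
  obtain ⟨o, ho, r, k, hr, hk, hkk, e⟩ := titsSub_kept τ (hle (mem_pairStab.1 hτ.1).1)
  have hrb : img (act.C r) levU2.b = levU2.b := by
    have a1 := (mem_pairStab.1 hτ.1).2
    rw [e, act.img_mul, (mem_pairStab.1 hk).2] at a1
    exact a1
  obtain ⟨r0, -, hr0, hr0b⟩ := optsT_spec o ho
  rw [hr, h21, hr0b] at hrb
  have hr1 : r = 1 := full_facts.2.2 (by rw [hr, hone o ho hrb, act_one])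
  rw [hr1, one_mul] at e
  subst e
  simp only [swapTest, Bool.and_eq_true, ← eτ] at hsw
  have hA : levT2.b ∈ halfA := by
    rw [← h0, List.getD_eq_getElem _ _ (by rw [halves.2.2.1]; norm_num)]
    exact List.getElem_mem _
  exact (List.nodup_append.1 (nodup_of_ndTest _ _ hsw.1)).2.2 _ (List.mem_map_of_mem hA) _ (hkk.1 _ hA) rfl

theorem card_titsSub : Nat.card titsSub = 17971200 := by
  have h1 := (actT.prodLen_le _ [] (chain_of_wide actT (K := ⊤) actT_one knownT_actT levelsT [] levelsT_ok)).1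
  rw [sizesT_ok.1, actT.stab_nil, Subgroup.card_top] at h1
  obtain ⟨k, hk⟩ := Subgroup.card_dvd_of_le titsSub_le
  rw [stab_cards.1] at hk
  have hk1 : k ≠ 1 := by
    rintro rfl
    exact titsSub_ne (Subgroup.eq_of_le_of_card_ge titsSub_le (by rw [stab_cards.1]; omega)).ge
  have hk0 : k ≠ 0 := by rintro rfl; omega
  have : Nat.card titsSub * 2 ≤ Nat.card titsSub * k := Nat.mul_le_mul_left _ (by omega)
  omega

instance fact13 : Fact (Nat.Prime 13) := ⟨by norm_num⟩

theorem titsSub_simple : IsSimpleGroup titsSub := by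
  haveI : Finite titsSub := Subtype.finite
  have hch := chain_of_wide actT (K := ⊤) actT_one knownT_actT levelsC [] levelsC_ok
  obtain ⟨hfull, -⟩ := actT.full_of_card hch (by rw [card_titsSub, sizesT_ok.2.1])
  have hinj : Function.Injective actT.C := fun g h e => Subtype.ext (full_facts.2.2 e)
  obtain ⟨hA5, hB5, hT13, hTne, -, -, hcons, hclen⟩ := rel_T
  obtain ⟨-, -, et, -, -, lt⟩ := posT_ok
  rw [List.getD_eq_getElem _ _ lt] at et
  obtain ⟨t, -, ht⟩ := knownT_actT _ (et ▸ List.getElem_mem lt)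
  have hord : orderOf t = 13 := orderOf_eq_prime (hinj (by rw [actT.C_pow actT_one, ht, actT_one]; exact (eqL_iff _ _).1 hT13))
    fun h => by
      rw [h, actT_one] at ht
      rw [← ht, (eqL_iff _ _).2 rfl] at hTne
      simp at hTne
  have hinv := invsC_ok
  simp only [Bool.and_eq_true] at hinv
  have hcent : ∀ g : titsSub, g * t = t * g → g ∈ Subgroup.zpowers t := by
    intro g hg
    have hopts : ∀ {L : Level} {I : List (List ℕ)} {l : List ℕ}, wideOk L oneC knownT l = true →
        invOK oneC (optsI L I) = true → ∀ o ∈ optsI L I,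
          (∃ x ∈ actT.stab l, actT.C x = o.2.1 ∧ img o.2.1 L.b = o.1) ∧ eqL (mulF o.2.2 o.2.1) oneC = true :=
      fun hw hi o ho => ⟨(wide_sound actT (K := ⊤) actT_one knownT_actT hw).2.2 _ (withInv_mem (M := o.2) ho),
        List.all_eq_true.1 hi o ho⟩
    have hk : ∀ k ∈ consC, actT.C (t ^ k.k) = k.A ∧ actT.C (t ^ k.k) = k.B := fun k hk => by
      have := List.all_eq_true.1 hcons k hk
      simp only [Bool.and_eq_true, eqL_iff] at this
      rw [actT.C_pow actT_one, ht]
      exact this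
    obtain ⟨hp1, ho1, hp2, ho2, hp3, ho3, -⟩ := levelsC_ok
    match hce : consC, hclen with
    | [k2, k3], _ =>
      have hs := searchC_ok
      simp only [searchC, dlevsC, hce] at hs
      rw [hce] at hk
      obtain ⟨i, hi⟩ := detTop_spec actT actT_one (pts := levC1.pts)
        (Ls := dlevs [levC2, levC3] [invC2, invC3] [k2, k3]) hp1 hfull
        (fun o ho => by
          obtain ⟨⟨x, -, hx⟩, hi⟩ := hopts ho1 hinv.1.1 o ho
          exact ⟨⟨x, hx⟩, hi⟩)
        ⟨hp2, hopts ho2 hinv.1.2, (hk k2 (by simp)).1, (hk k2 (by simp)).2,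
          hp3, hopts ho3 hinv.2, (hk k3 (by simp)).1, (hk k3 (by simp)).2, trivial⟩ ht ht hs g hg
      obtain ⟨j, -, hj⟩ := List.mem_map.1 hi
      have e : t ^ j = t ^ i * g := hinj (by rw [actT.C_pow actT_one, ht]; exact hj)
      rw [show g = (t ^ i)⁻¹ * t ^ j by rw [e, inv_mul_cancel_left]]
      exact Subgroup.mul_mem _ (Subgroup.inv_mem _ (Subgroup.npow_mem_zpowers _ _)) (Subgroup.npow_mem_zpowers _ _)
  let A : titsSub := ⟨eA, Subgroup.subset_closure (by simp)⟩
  let B : titsSub := ⟨eB, Subgroup.subset_closure (by simp)⟩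
  have hA : A ^ 5 = 1 := hinj (by rw [actT.C_pow actT_one, actT_one]; show powC oneC (act.C eA) 5 = _; rw [eAB.1]; exact (eqL_iff _ _).1 hA5)
  have hB : B ^ 5 = 1 := hinj (by rw [actT.C_pow actT_one, actT_one]; show powC oneC (act.C eB) 5 = _; rw [eAB.2]; exact (eqL_iff _ _).1 hB5)
  have hgen : Subgroup.closure ({A, B} : Set titsSub) = ⊤ := by
    have : ({A, B} : Set titsSub) = Subtype.val ⁻¹' ({eA, eB} : Set Act) := by
      ext x; simp [A, B, Subtype.ext_iff]
    rw [this]
    exact Subgroup.closure_closure_coe_preimage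
  refine CfsgLib.Leech.SelfCentSimple.isSimple hord hcent (by rw [card_titsSub]; norm_num) ?_ ?_
  · intro N hN hp
    haveI := hN
    have : Fact (Nat.Prime 2) := ⟨by norm_num⟩
    have : Fact (Nat.Prime 3) := ⟨by norm_num⟩
    have : Fact (Nat.Prime 5) := ⟨by norm_num⟩
    have e := CfsgLib.Leech.SelfCentSimple.not_dvd_of_part hord hcent hp
    have h27 : Nat.card N ∣ 3 ^ 3 := by
      refine CfsgLib.Leech.SelfCentSimple.dvd_of_parts (r := 3) (a := 3)
        (L := [(2, 11), (5, 2), (13, 1)]) (by rw [card_titsSub]; norm_num) ?_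
      simp only [List.mem_cons, List.not_mem_nil, or_false, forall_eq_or_imp, forall_eq]
      exact ⟨⟨by norm_num, e 2 11 (by rw [card_titsSub]; norm_num) (by decide)⟩,
        ⟨by norm_num, e 5 2 (by rw [card_titsSub]; norm_num) (by decide)⟩,
        ⟨by norm_num, hp⟩⟩
    have h3 := CfsgLib.Golay.SimpleCrit.part_modEq (q := 3) hord hcent hp
    have hcard : Nat.card N = 1 ∨ Nat.card N = 27 := by
      obtain ⟨i, hi, hiN⟩ := (Nat.dvd_prime_pow (by norm_num : Nat.Prime 3)).1 h27
      rw [hiN, Nat.Prime.factorization_pow (by norm_num : Nat.Prime 3), Finsupp.single_eq_same] at h3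
      interval_cases i
      · exact Or.inl (by rw [hiN]; rfl)
      · exact absurd h3 (by decide)
      · exact absurd h3 (by decide)
      · exact Or.inr (by rw [hiN]; rfl)
    rcases hcard with h | h
    · exact Subgroup.eq_bot_of_card_eq N h
    exfalso
    have hfix : ∀ x : titsSub, x ^ 5 = 1 → ∀ n ∈ N, x * n * x⁻¹ = n := fun x hx => fix_of_five N h hx
    have hcen : N ≤ Subgroup.center titsSub := by
      intro n hn
      refine Subgroup.mem_center_iff.2 fun g => ?_
      have : g ∈ Subgroup.centralizer ({n} : Set titsSub) := by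
        have hle : Subgroup.closure ({A, B} : Set titsSub) ≤ Subgroup.centralizer ({n} : Set titsSub) := by
          refine (Subgroup.closure_le _).2 fun x hx => Subgroup.mem_centralizer_singleton_iff.2 ?_
          have := mul_inv_eq_iff_eq_mul.1 (hfix x (by rcases hx with rfl | rfl <;> assumption) n hn)
          exact this
        exact hle (hgen ▸ Subgroup.mem_top g)
      exact Subgroup.mem_centralizer_singleton_iff.1 this
    have hNle : N ≤ Subgroup.zpowers t := fun n hn => hcent n (Subgroup.mem_center_iff.1 (hcen hn) t).symm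
    have := Subgroup.card_dvd_of_le hNle
    rw [h, Nat.card_zpowers, hord] at this
    norm_num at this
  · intro N hN hidx
    haveI := hN
    have h12 : ∀ x : titsSub, x ^ 5 = 1 → x ∈ N := by
      intro x hx
      obtain ⟨k, hk⟩ := hidx
      have h1 : x ^ (13 - 1) ∈ N := by
        rw [hk, pow_mul]
        exact N.pow_mem (N.pow_index_mem x) k
      have h2 := N.pow_mem h1 3
      rw [← pow_mul, show (13 - 1) * 3 = 5 * 7 + 1 by norm_num, pow_add, pow_mul, hx, one_pow, one_mul, pow_one] at h2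
      exact h2
    rw [eq_top_iff, ← hgen]
    exact (Subgroup.closure_le _).2 fun x hx => h12 x (by rcases hx with rfl | rfl <;> assumption)

theorem titsSub_isTits : Cfsg.IsTits titsSub := ⟨titsSub_simple, card_titsSub⟩

end CfsgLib.RuLattice
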