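import Cfsg.Agent.Lib.Ru.CertDefs
import Cfsg.Agent.Lib.Ru.TitsData

/-!
# The certificate for the derived subgroup of a point stabiliser
-/

set_option autoImplicit false
set_option maxRecDepth 8000

namespace CfsgLib.RuLattice

open CfsgLib.Rigid

/-- The codes known in the subgroup. -/
def knownT : List (List ℕ) := [cA, cB] ++ opsT.map Op.M

/-- The codes known from the program for the generators. -/
def knownS : List (List ℕ) := [cU, cV, cW] ++ opsS.map Op.M

/-- The levels of the subgroup. -/
def levelsT : List Level := [levT1, levT2, levT3]

/-- The levels of the subgroup along a cycle of the element of order 13. -/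
def levelsC : List Level := [levC1, levC2, levC3]

/-- The representatives of the first level. -/
def optsT : List (ℕ × List ℕ) := optsM levT1.b oneC levT1tm

/-- A representative, with whether it exists. -/
noncomputable def getT : ℕ → Bool × ℕ × List ℕ
  | 0 => (true, levT1.b, oneC)
  | j + 1 =>
    let part := levT1parts.getD (j / 40) []
    let e := part.getD (j % 40) (0, 0, 0, [])
    (decide (j / 40 < levT1parts.length) && decide (j % 40 < part.length), e.2.2.1, e.2.2.2)

/-- The parts of the first half. -/
def halfParts : List (List ℕ) :=
  [halfA_0, halfA_1, halfA_2, halfA_3, halfA_4, halfA_5, halfA_6, halfA_7, halfA_8, halfA_9, halfA_10,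
    halfA_11, halfA_12]

/-- A member of the first half, with whether it exists. -/
noncomputable def getH (h : ℕ) : Bool × ℕ :=
  let part := halfParts.getD (h / 40) []
  (decide (h / 40 < halfParts.length) && decide (h % 40 < part.length), part.getD (h % 40) 0)

/-- The check that a generator keeps the coset representatives up to the halves. -/
noncomputable def witOne (g : List ℕ) (o : ℕ × List ℕ) (w : ℕ × ℕ) : Bool :=
  let t := getT w.1
  let h := getH w.2
  t.1 && h.1 && Nat.beq t.2.1 (img g o.1) && Nat.beq (img t.2.2 h.2) (img g (img o.2 levT2.b))

/-- The check of all witnesses of a generator. -/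
noncomputable def witAll (g : List ℕ) : List (ℕ × List ℕ) → List (ℕ × ℕ) → Bool
  | o :: os, w :: ws => witOne g o w && witAll g os ws
  | [], _ => true
  | _ :: _, [] => false

/-- Whether a code keeps both halves. -/
noncomputable def keepTest (g : List ℕ) : Bool :=
  ndTest 32 ((halfA.map (img g)) ++ halfB) && ndTest 32 ((halfB.map (img g)) ++ halfA)

/-- Whether a code exchanges the halves. -/
noncomputable def swapTest (g : List ℕ) : Bool :=
  ndTest 32 ((halfA.map (img g)) ++ halfA) && ndTest 32 ((halfB.map (img g)) ++ halfB)

/-- The check of the halves. -/
noncomputable def halvesTest : Bool :=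
  ndTest 32 (halfA ++ halfB) && decide (halfA.length = 512) && decide (halfB.length = 512) &&
    (levU3.pts.all fun p => memN p halfA || memN p halfB) && Nat.beq (halfA.getD 0 0) levT2.b &&
    Nat.beq levU3.b levT2.b && Nat.beq levU2.b levT1.b && eqL halfA halfParts.flatten &&
    ((halfA ++ halfB).all fun p => decide (p < 2 ^ 28)) &&
    (levU3.gi.all fun i => keepTest (cert.known.getD i []) || swapTest (cert.known.getD i [])) &&
    swapTest (cert.known.getD (levU3.gi.getD 0 0) []) && decide (levU3.gi ≠ []) &&
    (optsT.all fun o => !(Nat.beq o.1 levT1.b) || eqL o.2 oneC)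

/-- The forced levels of the search. -/
def dlevsC : List DLev := dlevs [levC2, levC3] [invC2, invC3] consC

/-- The search. -/
noncomputable def searchC : Bool :=
  detTop cT cT oneC 13 ((List.range 13).map fun i => powC oneC cT i) levC1.b levC1.pts
    (optsI levC1 invC1) dlevsC

end CfsgLib.RuLattice
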